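import Groth.Agent.Lib.NormalHom.Colimit

/-!
# Base change of normal homomorphisms
-/

set_option autoImplicit false
set_option linter.style.haveILetI false
universe u

open IsLocalRing TensorProduct
open GrothLib.Excellent (isNormalRing_congr)

namespace GrothLib.NormalHom

variable {A B : Type u} [CommRing A] [CommRing B] [Algebra A B]

/-- The fibre of a normal homomorphism over an arbitrary field point is normal. -/
theorem isNormalRing_field_tensor' (h : ∀ (p : Ideal A) [p.IsPrime], EGA4.IsGeomNormal p.ResidueField (p.Fiber B))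
    (K : Type u) [Field K] [Algebra A K] : EGA4.IsNormalRing (K ⊗[A] B) := by
  let p := RingHom.ker (algebraMap A K)
  have hp : p.IsPrime := RingHom.ker_isPrime _
  let φ : p.ResidueField →+* K := Ideal.ResidueField.lift p (algebraMap A K) le_rfl
    (fun x hx => isUnit_iff_ne_zero.2 hx)
  let _ : Algebra p.ResidueField K := φ.toAlgebra
  have : IsScalarTower A p.ResidueField K := IsScalarTower.of_algebraMap_eq fun x =>
    (Ideal.ResidueField.lift_algebraMap p _ _ _ x).symm
  exact isNormalRing_congr (Algebra.TensorProduct.cancelBaseChange A p.ResidueField K K B).toRingEquiv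
    (isNormalRing_tensor_field (h p) K)

variable (A' : Type u) [CommRing A'] [Algebra A A']

/-- Normal homomorphisms are stable under base change. -/
theorem isNormalHom_baseChange' (h : EGA4.IsNormalHom A B) : EGA4.IsNormalHom A' (A' ⊗[A] B) := by
  have := h.1
  refine ⟨inferInstance, fun q _ L _ _ hL => ?_⟩
  let _ : Algebra A' L := ((algebraMap q.ResidueField L).comp (algebraMap A' q.ResidueField)).toAlgebra
  have : IsScalarTower A' q.ResidueField L := IsScalarTower.of_algebraMap_eq fun _ => rfl
  let _ : Algebra A L := ((algebraMap A' L).comp (algebraMap A A')).toAlgebra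
  have : IsScalarTower A A' L := IsScalarTower.of_algebraMap_eq fun _ => rfl
  exact isNormalRing_congr
    (((Algebra.TensorProduct.cancelBaseChange A' q.ResidueField L L (A' ⊗[A] B)).toRingEquiv.trans
      (Algebra.TensorProduct.cancelBaseChange A A' L L B).toRingEquiv)).symm
    (isNormalRing_field_tensor' h.2 L)

/-- Normality of homomorphisms descends along faithfully flat base change. -/
theorem isNormalHom_of_baseChange [Module.FaithfullyFlat A A'] (h : EGA4.IsNormalHom A' (A' ⊗[A] B)) :
    EGA4.IsNormalHom A B := by
  have := h.1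
  refine ⟨Module.Flat.of_flat_tensorProduct A B A', fun p _ L _ _ hL => ?_⟩
  let _ : Algebra A L := ((algebraMap p.ResidueField L).comp (algebraMap A p.ResidueField)).toAlgebra
  have : IsScalarTower A p.ResidueField L := IsScalarTower.of_algebraMap_eq fun _ => rfl
  obtain ⟨m, hm⟩ := Ideal.exists_maximal (A' ⊗[A] L)
  let K' := (A' ⊗[A] L) ⧸ m
  let _ : Field K' := Ideal.Quotient.field m
  let _ : Algebra L K' := ((Ideal.Quotient.mk m).comp
    Algebra.TensorProduct.includeRight.toRingHom).toAlgebra
  haveI : IsScalarTower A L K' := IsScalarTower.of_algebraMap_eq fun x => by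
    show algebraMap A K' x = Ideal.Quotient.mk m ((1 : A') ⊗ₜ[A] algebraMap A L x)
    rw [IsScalarTower.algebraMap_apply A (A' ⊗[A] L) K', Ideal.Quotient.algebraMap_eq,
      ← (Algebra.TensorProduct.includeRight : L →ₐ[A] A' ⊗[A] L).commutes]
    rfl
  have h1 : EGA4.IsNormalRing (K' ⊗[A'] (A' ⊗[A] B)) := isNormalRing_field_tensor' h.2 K'
  have h2 : EGA4.IsNormalRing ((L ⊗[A] B) ⊗[L] K') := isNormalRing_congr
    ((Algebra.TensorProduct.cancelBaseChange A A' K' K' B).toRingEquiv.trans
      ((Algebra.TensorProduct.cancelBaseChange A L K' K' B).symm.toRingEquiv.trans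
        (Algebra.TensorProduct.comm L K' (L ⊗[A] B)).toRingEquiv)) h1
  exact isNormalRing_congr (Algebra.TensorProduct.cancelBaseChange A p.ResidueField L L B).symm.toRingEquiv
    (isNormalRing_descent (L ⊗[A] B) ((L ⊗[A] B) ⊗[L] K') h2)

end GrothLib.NormalHom
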