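import Groth.Agent.Lib.NormalHom.OnePlus
import Groth.Agent.Lib.AdicExtra.FiniteAlg
import Groth.Agent.Lib.LocAcyc.GenericFibre

/-!
# Connected normal rings
-/

set_option autoImplicit false
set_option linter.style.haveILetI false
universe u

namespace GrothLib.NormalHom

/-- A Noetherian ring without idempotents whose local rings are domains is a domain. -/
theorem isDomain_of_local_isDomain (R : Type u) [CommRing R] [IsNoetherianRing R] [Nontrivial R]
    (hloc : ∀ (P : Ideal R) [P.IsPrime], IsDomain (Localization.AtPrime P))
    (hid : ∀ e : R, e * e = e → e = 0 ∨ e = 1) : IsDomain R := by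
  haveI : NoZeroDivisors R := ⟨fun {a b} hab => by
    let N : Ideal R := (Submodule.span R {a}).annihilator
    let M : Ideal R := N.annihilator
    have hN : ∀ x, x ∈ N ↔ x * a = 0 := fun x => by
      simp [N, Submodule.mem_annihilator_span_singleton]
    have htop : N ⊔ M = ⊤ := by
      by_contra h
      obtain ⟨P, hP, hle⟩ := Ideal.exists_le_maximal _ h
      haveI := hloc P
      rcases eq_or_ne (algebraMap R (Localization.AtPrime P) a) 0 with h0 | h0
      · obtain ⟨⟨u, hu⟩, hua⟩ := (IsLocalization.map_eq_zero_iff P.primeCompl _ _).1 h0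
        exact hu (hle (Submodule.mem_sup_left ((hN u).2 hua)))
      · obtain ⟨s, hs⟩ := IsNoetherian.noetherian N
        have hz : ∀ x ∈ s, ∃ u ∉ P, u * x = 0 := fun x hx => by
          have hxN : x ∈ N := hs ▸ Submodule.subset_span hx
          have h1 := congrArg (algebraMap R (Localization.AtPrime P)) ((hN x).1 hxN)
          rw [map_mul, map_zero, mul_eq_zero] at h1
          obtain ⟨⟨u, hu⟩, hux⟩ :=
            (IsLocalization.map_eq_zero_iff P.primeCompl _ _).1 (h1.resolve_right h0)
          exact ⟨u, hu, hux⟩
        choose u hu hux using hz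
        have hmem : ∏ x ∈ s.attach, u x.1 x.2 ∈ P := hle (Submodule.mem_sup_right (by
          show _ ∈ N.annihilator
          rw [← hs]
          refine Submodule.mem_annihilator.2 fun y hy => ?_
          induction hy using Submodule.span_induction with
          | mem y hy =>
            obtain ⟨c, hc⟩ := Finset.dvd_prod_of_mem (fun x : s => u x.1 x.2) (Finset.mem_attach s ⟨y, hy⟩)
            show (∏ x ∈ s.attach, u x.1 x.2) * y = 0
            rw [hc, mul_right_comm, hux y hy, zero_mul]
          | zero => exact smul_zero _
          | add y z _ _ hy hz => rw [smul_add, hy, hz, add_zero]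
          | smul r y _ hy => rw [smul_comm, hy, smul_zero]))
        rw [Ideal.IsPrime.prod_mem_iff] at hmem
        obtain ⟨x, -, hx⟩ := hmem
        exact hu x.1 x.2 hx
    obtain ⟨x, hx, y, hy, hxy⟩ := Submodule.mem_sup.1 ((Ideal.eq_top_iff_one _).1 htop)
    have hyx : y * x = 0 := Submodule.mem_annihilator.1 hy x hx
    rcases hid x (by linear_combination x * hxy - hyx) with rfl | rfl
    · right
      rw [zero_add] at hxy
      have := Submodule.mem_annihilator.1 hy b ((hN b).2 (by rw [mul_comm, hab]))
      simpa [hxy] using this
    · left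
      simpa using (hN 1).1 hx⟩
  exact NoZeroDivisors.to_isDomain R

/-- An integrally closed domain is a normal ring. -/
theorem isNormalRing_of_isDomain (R : Type u) [CommRing R] [IsDomain R] [IsIntegrallyClosed R] :
    EGA4.IsNormalRing R := fun p _ =>
  ⟨IsLocalization.isDomain_of_le_nonZeroDivisors _ p.primeCompl_le_nonZeroDivisors,
    isIntegrallyClosed_of_isLocalization (Localization.AtPrime p) p.primeCompl p.primeCompl_le_nonZeroDivisors⟩

/-- A normal domain is integrally closed. -/
theorem isIntegrallyClosed_of_isNormalRing (R : Type u) [CommRing R] [IsDomain R] (h : EGA4.IsNormalRing R) :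
    IsIntegrallyClosed R := IsIntegrallyClosed.of_localization_maximal fun p _ _ => (h p).2

end GrothLib.NormalHom
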