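import Groth.Agent.Lib.GeomReg.FG
import Groth.Agent.Lib.GeomReg.Insep
import Groth.Agent.Lib.GeomReg.Comp
import Groth.Agent.Lib.NormalSmooth.Basic
import Groth.Agent.Lib.Excellent.NorFiniteType
import Groth.Agent.Lib.Excellent.FlatFibres
import Groth.Agent.Lib.Excellent.IdealCompletionNormal

/-!
# Normal homomorphisms
-/

set_option autoImplicit false
set_option linter.style.haveILetI false
universe u

open IsLocalRing TensorProduct
open GrothLib.Excellent (isNormalRing_congr isNormalRing_isLocalization)

namespace GrothLib.NormalHom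

/-- A regular ring is normal. -/
theorem isNormalRing_of_isRegularRing (T : Type u) [CommRing T] [IsRegularRing T] : EGA4.IsNormalRing T := fun p _ => by
  haveI : IsRegularLocalRing (Localization.AtPrime p) := isRegularRing_iff.1 inferInstance p
  exact ⟨GrothLib.CMFree.isDomain_of_isRegularLocalRing _, GrothLib.RegLoc.isIntegrallyClosed_of_isRegularLocalRing _⟩

/-- Normality descends along faithfully flat maps. -/
theorem isNormalRing_descent (R S : Type u) [CommRing R] [CommRing S] [Algebra R S] [Module.FaithfullyFlat R S]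
    (h : EGA4.IsNormalRing S) : EGA4.IsNormalRing R := fun p _ =>
  GrothLib.NormalSmooth.isNormalRing_of_faithfullyFlat R S (fun q _ => h q) p

/-- Normal rings stay normal after a formally smooth finitely generated field extension. -/
theorem isNormalRing_tensor_of_formallySmooth (k M R : Type u) [Field k] [Field M] [Algebra k M]
    [Algebra.EssFiniteType k M] [Algebra.FormallySmooth k M] [CommRing R] [Algebra k R]
    (hR : EGA4.IsNormalRing R) : EGA4.IsNormalRing (M ⊗[k] R) := by
  let B := Algebra.EssFiniteType.subalgebra k M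
  have : IsFractionRing B M := IsFractionRing.of_field B M fun z => by
    obtain ⟨a, b, rfl⟩ := IsLocalization.exists_mk'_eq (Algebra.EssFiniteType.submonoid k M) z
    refine ⟨a, b, ?_⟩
    have hb : algebraMap B M b ≠ 0 := (IsLocalization.map_units M b).ne_zero
    rw [eq_div_iff hb, IsLocalization.mk'_spec]
  have hbot : (⊥ : Ideal B).primeCompl = nonZeroDivisors B := Ideal.primeCompl_bot
  have : IsLocalization (⊥ : Ideal B).primeCompl M := by rw [hbot]; infer_instance
  let e1 : M ≃ₐ[B] Localization.AtPrime (⊥ : Ideal B) :=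
    IsLocalization.algEquiv (⊥ : Ideal B).primeCompl _ _
  let e1' : M ≃ₐ[k] Localization.AtPrime (⊥ : Ideal B) := e1.restrictScalars k
  have : IsRegularLocalRing (Localization.AtPrime (⊥ : Ideal B)) :=
    IsRegularLocalRing.of_ringEquiv (R := M) e1.toRingEquiv
  let r : M →ₐ[k] IsLocalRing.ResidueField (Localization.AtPrime (⊥ : Ideal B)) :=
    (IsScalarTower.toAlgHom k (Localization.AtPrime (⊥ : Ideal B)) _).comp e1'.toAlgHom
  have : Algebra.FormallySmooth k (IsLocalRing.ResidueField (Localization.AtPrime (⊥ : Ideal B))) :=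
    .of_equiv (AlgEquiv.ofBijective r ⟨r.toRingHom.injective,
      IsLocalRing.residue_surjective.comp e1'.surjective⟩)
  have hsm : Algebra.IsSmoothAt k (⊥ : Ideal B) :=
    GrothLib.LocProp.isSmoothAt_of_isRegularLocalRing _
  have : Algebra.FinitePresentation k B := Algebra.FinitePresentation.of_finiteType.mp inferInstance
  obtain ⟨f, hf, hfsm⟩ := Algebra.IsSmoothAt.exists_notMem_smooth k (⊥ : Ideal B)
  have hf0 : algebraMap B M f ≠ 0 := fun h => hf ((Ideal.mem_bot).2
    (IsFractionRing.injective B M (h.trans (map_zero _).symm)))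
  let B' := Localization.Away f
  let _ : Algebra B' M := (IsLocalization.Away.lift f (isUnit_iff_ne_zero.2 hf0) :
    B' →+* M).toAlgebra
  have : IsScalarTower B B' M :=
    IsScalarTower.of_algebraMap_eq fun x => (IsLocalization.Away.lift_eq f _ x).symm
  have : IsScalarTower k B' M := IsScalarTower.of_algebraMap_eq fun x => by
    rw [IsScalarTower.algebraMap_apply k B B', ← IsScalarTower.algebraMap_apply B B' M,
      ← IsScalarTower.algebraMap_apply k B M]
  have : IsFractionRing B' M :=
    IsFractionRing.isFractionRing_of_isDomain_of_isLocalization (Submonoid.powers f) B' M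
  have h1 : EGA4.IsNormalRing (R ⊗[k] B') := fun q _ =>
    GrothLib.NormalSmooth.isNormalRing_of_smooth R (R ⊗[k] B') (fun p _ => hR p) q
  let T := B' ⊗[k] R
  have h2 : EGA4.IsNormalRing T := isNormalRing_congr (Algebra.TensorProduct.comm k R B').toRingEquiv h1
  have h3 : EGA4.IsNormalRing (T ⊗[B'] M) :=
    isNormalRing_isLocalization (Algebra.algebraMapSubmonoid T (nonZeroDivisors B')) h2
  exact isNormalRing_congr ((Algebra.TensorProduct.comm B' T M).toRingEquiv.trans
    (Algebra.TensorProduct.cancelBaseChange k B' M M R).toRingEquiv) h3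

/-- A geometrically normal algebra stays normal after every finitely generated field extension. -/
theorem isNormalRing_tensor_of_essFiniteType {k S : Type u} [Field k] [CommRing S] [Algebra k S]
    (hS : EGA4.IsGeomNormal k S) (L : Type u) [Field L] [Algebra k L]
    [Algebra.EssFiniteType k L] : EGA4.IsNormalRing (L ⊗[k] S) := by
  obtain ⟨k', M, _, _, _, _, _, _, _, _, hfin, _, _⟩ := GrothLib.GeomReg.exists_formallySmooth_extension k L
  have h1 : EGA4.IsNormalRing (k' ⊗[k] S) := hS k' hfin
  have h2 : EGA4.IsNormalRing (M ⊗[k'] (k' ⊗[k] S)) := isNormalRing_tensor_of_formallySmooth k' M _ h1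
  have h3 : EGA4.IsNormalRing ((L ⊗[k] S) ⊗[L] M) := isNormalRing_congr
    ((Algebra.TensorProduct.cancelBaseChange k k' M M S).toRingEquiv.trans
      ((Algebra.TensorProduct.cancelBaseChange k L M M S).symm.toRingEquiv.trans
        (Algebra.TensorProduct.comm L M (L ⊗[k] S)).toRingEquiv)) h2
  exact isNormalRing_descent (L ⊗[k] S) ((L ⊗[k] S) ⊗[L] M) h3

/-- Geometric normality is tested on finite purely inseparable extensions. -/
theorem isGeomNormal_of_purelyInseparable {k S : Type u} [Field k] [CommRing S] [Algebra k S]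
    (hS : ∀ (k' : Type u) [Field k'] [Algebra k k'], Module.Finite k k' → IsPurelyInseparable k k' →
      EGA4.IsNormalRing (k' ⊗[k] S)) : EGA4.IsGeomNormal k S := by
  intro K _ _ hK
  haveI := hK
  obtain ⟨P0, M, _, _, _, _, _, _, _, _, hfin0, _, _, _⟩ := GrothLib.GeomReg.exists_separable_over_insep k K
  have h1 : EGA4.IsNormalRing (P0 ⊗[k] S) := hS P0 hfin0 inferInstance
  have h2 : EGA4.IsNormalRing (M ⊗[P0] (P0 ⊗[k] S)) := isNormalRing_tensor_of_formallySmooth P0 M _ h1
  have h3 : EGA4.IsNormalRing ((K ⊗[k] S) ⊗[K] M) := isNormalRing_congr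
    ((Algebra.TensorProduct.cancelBaseChange k P0 M M S).toRingEquiv.trans
      ((Algebra.TensorProduct.cancelBaseChange k K M M S).symm.toRingEquiv.trans
        (Algebra.TensorProduct.comm K M (K ⊗[k] S)).toRingEquiv)) h2
  exact isNormalRing_descent (K ⊗[k] S) ((K ⊗[k] S) ⊗[K] M) h3

/-- Geometric normality passes to finitely generated field extensions and back. -/
theorem isGeomNormal_baseChange_iff {k S : Type u} [Field k] [CommRing S] [Algebra k S]
    (K : Type u) [Field K] [Algebra k K] [Algebra.EssFiniteType k K] :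
    EGA4.IsGeomNormal k S ↔ EGA4.IsGeomNormal K (K ⊗[k] S) := by
  refine ⟨fun h L _ _ hL => ?_, fun h L _ _ hL => ?_⟩
  · letI : Algebra k L := ((algebraMap K L).comp (algebraMap k K)).toAlgebra
    haveI : IsScalarTower k K L := IsScalarTower.of_algebraMap_eq fun _ => rfl
    haveI : Algebra.EssFiniteType k L := Algebra.EssFiniteType.comp k K L
    exact isNormalRing_congr (Algebra.TensorProduct.cancelBaseChange k K L L S).symm.toRingEquiv
      (isNormalRing_tensor_of_essFiniteType h L)
  · haveI := hL
    obtain ⟨m, hm⟩ := Ideal.exists_maximal (K ⊗[k] L)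
    let K' := (K ⊗[k] L) ⧸ m
    let _ : Field K' := Ideal.Quotient.field m
    let _ : Algebra L K' := ((Ideal.Quotient.mk m).comp
      Algebra.TensorProduct.includeRight.toRingHom).toAlgebra
    haveI : IsScalarTower k L K' := IsScalarTower.of_algebraMap_eq fun x => by
      show algebraMap k K' x = Ideal.Quotient.mk m ((1 : K) ⊗ₜ[k] algebraMap k L x)
      rw [IsScalarTower.algebraMap_apply k (K ⊗[k] L) K', Ideal.Quotient.algebraMap_eq,
        ← (Algebra.TensorProduct.includeRight : L →ₐ[k] K ⊗[k] L).commutes]
      rfl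
    haveI : Module.Finite K K' :=
      Module.Finite.of_surjective (Ideal.Quotient.mkₐ K m).toLinearMap Ideal.Quotient.mk_surjective
    have h1 : EGA4.IsNormalRing (K' ⊗[K] (K ⊗[k] S)) := h K' inferInstance
    have h2 : EGA4.IsNormalRing ((L ⊗[k] S) ⊗[L] K') := isNormalRing_congr
      ((Algebra.TensorProduct.cancelBaseChange k K K' K' S).toRingEquiv.trans
        ((Algebra.TensorProduct.cancelBaseChange k L K' K' S).symm.toRingEquiv.trans
          (Algebra.TensorProduct.comm L K' (L ⊗[k] S)).toRingEquiv)) h1
    exact isNormalRing_descent (L ⊗[k] S) ((L ⊗[k] S) ⊗[L] K') h2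

variable {A B C : Type u} [CommRing A] [CommRing B] [CommRing C]

/-- The fibre over a field point of a normal homomorphism. -/
theorem isNormalRing_field_tensor [Algebra B C]
    (h : ∀ (p : Ideal B) [p.IsPrime], EGA4.IsGeomNormal p.ResidueField (p.Fiber C))
    (K : Type u) [Field K] [Algebra B K] [Algebra.EssFiniteType B K] : EGA4.IsNormalRing (K ⊗[B] C) := by
  let p := RingHom.ker (algebraMap B K)
  have hp : p.IsPrime := RingHom.ker_isPrime _
  let φ : p.ResidueField →+* K := Ideal.ResidueField.lift p (algebraMap B K) le_rfl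
    (fun x hx => isUnit_iff_ne_zero.2 hx)
  let _ : Algebra p.ResidueField K := φ.toAlgebra
  have : IsScalarTower B p.ResidueField K := IsScalarTower.of_algebraMap_eq fun x =>
    (Ideal.ResidueField.lift_algebraMap p _ _ _ x).symm
  have : Algebra.EssFiniteType p.ResidueField K := .of_comp B _ _
  exact isNormalRing_congr (Algebra.TensorProduct.cancelBaseChange B p.ResidueField K K C).toRingEquiv
    (isNormalRing_tensor_of_essFiniteType (h p) K)

/-- Ascent of normality for rings. -/
theorem isNormalRing_of_flat_of_fibres [Algebra A B] [IsNoetherianRing A] [IsNoetherianRing B] [Module.Flat A B]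
    (hA : EGA4.IsNormalRing A) (hfib : ∀ (p : Ideal A) [p.IsPrime], EGA4.IsNormalRing (p.Fiber B)) :
    EGA4.IsNormalRing B := fun q _ =>
  GrothLib.Excellent.normal_of_flat (A := A) (fun _ _ => hA _)
    (fun P _ => GrothLib.Excellent.normal_fibLocRing P (hfib _)) q

/-- Base change of a normal homomorphism to a normal ring of finite type. -/
theorem isNormalRing_tensor [Algebra B C] (h : EGA4.IsNormalHom B C) (B' : Type u) [CommRing B']
    [Algebra B B'] [Algebra.EssFiniteType B B'] [IsNoetherianRing B'] (hB' : EGA4.IsNormalRing B')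
    [IsNoetherianRing (B' ⊗[B] C)] : EGA4.IsNormalRing (B' ⊗[B] C) := by
  have := h.1
  refine isNormalRing_of_flat_of_fibres hB' fun Q _ => ?_
  have : Algebra.EssFiniteType B Q.ResidueField := .comp B B' _
  exact isNormalRing_congr (Algebra.TensorProduct.cancelBaseChange B B' B' Q.ResidueField C).symm.toRingEquiv
    (isNormalRing_field_tensor h.2 Q.ResidueField)

/-- A regular homomorphism is normal. -/
theorem isNormalHom_of_isRegularHom [Algebra A B] (h : CAlg.IsRegularHom A B) : EGA4.IsNormalHom A B :=
  ⟨h.1, fun p _ L _ _ hL => haveI := (h.2 p).2 L hL; isNormalRing_of_isRegularRing _⟩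

/-- The composition of normal homomorphisms. -/
theorem isNormalHom_comp [Algebra A B] [Algebra B C] [Algebra A C] [IsScalarTower A B C]
    [IsNoetherianRing B] [IsNoetherianRing C]
    (hAB : EGA4.IsNormalHom A B) (hBC : EGA4.IsNormalHom B C) : EGA4.IsNormalHom A C := by
  have := hAB.1
  have := hBC.1
  refine ⟨Module.Flat.trans A B C, fun p _ L _ _ hL => ?_⟩
  let _ : Algebra A L := ((algebraMap p.ResidueField L).comp (algebraMap A p.ResidueField)).toAlgebra
  have : IsScalarTower A p.ResidueField L := IsScalarTower.of_algebraMap_eq fun _ => rfl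
  have : Algebra.EssFiniteType A L := .comp A p.ResidueField L
  have hnB : EGA4.IsNormalRing (B ⊗[A] L) :=
    isNormalRing_congr (Algebra.TensorProduct.comm A L B).toRingEquiv (isNormalRing_field_tensor hAB.2 L)
  have : IsNoetherianRing (B ⊗[A] L) := Algebra.EssFiniteType.isNoetherianRing B _
  have : IsNoetherianRing (C ⊗[A] L) := Algebra.EssFiniteType.isNoetherianRing C _
  let e : L ⊗[p.ResidueField] (p.Fiber C) ≃+* (B ⊗[A] L) ⊗[B] C :=
    (Algebra.TensorProduct.cancelBaseChange A p.ResidueField L L C).toRingEquiv.trans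
      ((Algebra.TensorProduct.comm A L C).toRingEquiv.trans
        ((Algebra.TensorProduct.cancelBaseChange A B C C L).symm.toRingEquiv.trans
          (Algebra.TensorProduct.comm B C (B ⊗[A] L)).toRingEquiv))
  have : IsNoetherianRing ((B ⊗[A] L) ⊗[B] C) := isNoetherianRing_of_ringEquiv _
    ((Algebra.TensorProduct.cancelBaseChange A B C C L).symm.toRingEquiv.trans
      (Algebra.TensorProduct.comm B C (B ⊗[A] L)).toRingEquiv)
  exact isNormalRing_congr e.symm (isNormalRing_tensor hBC (B ⊗[A] L) hnB)

/-- Normal homomorphisms descend along faithfully flat maps. -/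
theorem isNormalHom_of_faithfullyFlat [Algebra A B] [Algebra B C] [Algebra A C] [IsScalarTower A B C]
    [Module.FaithfullyFlat B C] (h : EGA4.IsNormalHom A C) : EGA4.IsNormalHom A B := by
  have := h.1
  refine ⟨Flatness.flat_of_faithfullyFlat (R := A) (S := B) (M := C), fun p _ L _ _ hL => ?_⟩
  let _ : Algebra A L := ((algebraMap p.ResidueField L).comp (algebraMap A p.ResidueField)).toAlgebra
  have : IsScalarTower A p.ResidueField L := IsScalarTower.of_algebraMap_eq fun _ => rfl
  have : Algebra.EssFiniteType A L := .comp A p.ResidueField L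
  have h1 : EGA4.IsNormalRing ((B ⊗[A] L) ⊗[B] C) := isNormalRing_congr
    ((Algebra.TensorProduct.comm A L C).toRingEquiv.trans
      ((Algebra.TensorProduct.cancelBaseChange A B C C L).symm.toRingEquiv.trans
        (Algebra.TensorProduct.comm B C (B ⊗[A] L)).toRingEquiv)) (isNormalRing_field_tensor h.2 L)
  exact isNormalRing_congr
    ((Algebra.TensorProduct.comm A B L).toRingEquiv.trans
      (Algebra.TensorProduct.cancelBaseChange A p.ResidueField L L B).symm.toRingEquiv)
    (isNormalRing_descent (B ⊗[A] L) ((B ⊗[A] L) ⊗[B] C) h1)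

/-- Normal homomorphisms are stable under base change of finite type. -/
theorem isNormalHom_baseChange [Algebra A B] [Algebra A C] [Algebra.EssFiniteType A C]
    (h : EGA4.IsNormalHom A B) : EGA4.IsNormalHom C (C ⊗[A] B) := by
  have := h.1
  refine ⟨inferInstance, fun q _ L _ _ hL => ?_⟩
  let _ : Algebra C L := ((algebraMap q.ResidueField L).comp (algebraMap C q.ResidueField)).toAlgebra
  have : IsScalarTower C q.ResidueField L := IsScalarTower.of_algebraMap_eq fun _ => rfl
  let _ : Algebra A L := ((algebraMap C L).comp (algebraMap A C)).toAlgebra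
  have : IsScalarTower A C L := IsScalarTower.of_algebraMap_eq fun _ => rfl
  have : Algebra.EssFiniteType C L := .comp C q.ResidueField L
  have : Algebra.EssFiniteType A L := .comp A C L
  exact isNormalRing_congr
    (((Algebra.TensorProduct.cancelBaseChange C q.ResidueField L L (C ⊗[A] B)).toRingEquiv.trans
      (Algebra.TensorProduct.cancelBaseChange A C L L B).toRingEquiv)).symm
    (isNormalRing_field_tensor h.2 L)

end GrothLib.NormalHom
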