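import Groth.Agent.Lib.NormalHom.Basic
import Groth.Agent.Lib.SepField.Smooth

/-!
# Normality of rings exhausted by normal subrings
-/

set_option autoImplicit false
set_option linter.style.haveILetI false
universe u

open IsLocalRing TensorProduct
open GrothLib.Excellent (isNormalRing_congr)

namespace GrothLib.NormalHom

/-- A ring in which every finite set lies in a normal subring is normal. -/
theorem isNormalRing_of_exhausted (R : Type u) [CommRing R]
    (h : ∀ s : Finset R, ∃ (T : Type u) (_ : CommRing T) (f : T →+* R),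
      Function.Injective f ∧ EGA4.IsNormalRing T ∧ ∀ x ∈ s, x ∈ Set.range f) :
    EGA4.IsNormalRing R := by
  classical
  intro Q _
  let D := Localization.AtPrime Q
  have hdom : IsDomain D := by
    haveI : NoZeroDivisors D := ⟨fun {x y} hxy => by
      obtain ⟨a, s, rfl⟩ := IsLocalization.exists_mk'_eq Q.primeCompl x
      obtain ⟨b, t, rfl⟩ := IsLocalization.exists_mk'_eq Q.primeCompl y
      rw [← IsLocalization.mk'_mul, IsLocalization.mk'_eq_zero_iff] at hxy
      obtain ⟨u, hu⟩ := hxy
      obtain ⟨T, _, f, hf, hT, hmem⟩ := h {a, b, (u : R)}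
      obtain ⟨a', rfl⟩ := hmem a (by simp)
      obtain ⟨b', rfl⟩ := hmem b (by simp)
      obtain ⟨u', hu'⟩ := hmem u (by simp)
      obtain ⟨_, -⟩ := hT (Q.comap f)
      have h0 : algebraMap T (Localization.AtPrime (Q.comap f)) (a' * b') = 0 := by
        rw [IsLocalization.map_eq_zero_iff (Q.comap f).primeCompl]
        refine ⟨⟨u', show f u' ∉ Q by rw [hu']; exact u.2⟩, hf ?_⟩
        show f (u' * (a' * b')) = f 0
        rw [map_mul, map_mul, hu', hu, map_zero]
      rw [map_mul, mul_eq_zero] at h0
      rcases h0 with h0 | h0 <;> rw [IsLocalization.map_eq_zero_iff (Q.comap f).primeCompl] at h0 <;>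
        obtain ⟨⟨w, hw⟩, hw0⟩ := h0
      · left
        rw [IsLocalization.mk'_eq_zero_iff]
        exact ⟨⟨f w, hw⟩, show f w * f a' = 0 by rw [← map_mul, hw0, map_zero]⟩
      · right
        rw [IsLocalization.mk'_eq_zero_iff]
        exact ⟨⟨f w, hw⟩, show f w * f b' = 0 by rw [← map_mul, hw0, map_zero]⟩⟩
    exact NoZeroDivisors.to_isDomain D
  refine ⟨hdom, ?_⟩
  haveI := hdom
  let K := FractionRing D
  rw [isIntegrallyClosed_iff K]
  intro x hx
  obtain ⟨X, Y, hY, rfl⟩ := IsFractionRing.div_surjective D x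
  obtain ⟨a, s0, rfl⟩ := IsLocalization.exists_mk'_eq Q.primeCompl X
  obtain ⟨b, t0, rfl⟩ := IsLocalization.exists_mk'_eq Q.primeCompl Y
  obtain ⟨P, hP, hP0⟩ := hx
  obtain ⟨⟨m, hmQ⟩, hm⟩ := IsLocalization.exist_integer_multiples_of_finset Q.primeCompl
    ((Finset.range (P.natDegree + 1)).image P.coeff)
  choose C hC using fun i : Fin (P.natDegree + 1) =>
    hm (P.coeff i) (Finset.mem_image_of_mem _ (Finset.mem_range.2 i.2))
  let g : R →+* K := (algebraMap D K).comp (algebraMap R D)
  have hgne : ∀ {c : R}, c ∉ Q → g c ≠ 0 := fun {c} hc => by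
    show algebraMap D K (algebraMap R D c) ≠ 0
    rw [(map_ne_zero_iff _ (IsFractionRing.injective D K))]
    exact (IsLocalization.map_units D (⟨c, hc⟩ : Q.primeCompl)).ne_zero
  have hb0 : g b ≠ 0 := by
    intro h0
    have h1 : algebraMap R D b = 0 := IsFractionRing.injective D K (h0.trans (map_zero _).symm)
    exact nonZeroDivisors.ne_zero hY (by rw [IsLocalization.mk'_eq_mul_mk'_one, h1, zero_mul])
  let x := algebraMap D K (IsLocalization.mk' D a s0) / algebraMap D K (IsLocalization.mk' D b t0)
  let a1 := a * t0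
  let b1 := b * s0
  have hb1 : g b1 ≠ 0 := by rw [map_mul]; exact mul_ne_zero hb0 (hgne s0.2)
  have hx1 : x = g a1 / g b1 := by
    have e1 : algebraMap D K (IsLocalization.mk' D a s0) * g s0 = g a := by
      show _ * algebraMap D K (algebraMap R D s0) = algebraMap D K (algebraMap R D a)
      rw [← map_mul, IsLocalization.mk'_spec]
    have e2 : algebraMap D K (IsLocalization.mk' D b t0) * g t0 = g b := by
      show _ * algebraMap D K (algebraMap R D t0) = algebraMap D K (algebraMap R D b)
      rw [← map_mul, IsLocalization.mk'_spec]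
    rw [map_mul, map_mul, ← e1, ← e2]
    show _ / _ = _
    rw [mul_assoc, mul_assoc, mul_comm (g t0) (g s0)]
    exact (mul_div_mul_right _ _ (mul_ne_zero (hgne s0.2) (hgne t0.2))).symm
  let n := P.natDegree
  let F : R := ∑ i : Fin (n + 1), C i * a1 ^ (i : ℕ) * b1 ^ (n - (i : ℕ))
  have hF : g F = 0 := by
    rw [Polynomial.eval₂_eq_sum_range, ← Fin.sum_univ_eq_sum_range (fun i => algebraMap D K (P.coeff i) * x ^ i)] at hP0
    have : g F = g b1 ^ n * (g m * ∑ i : Fin (n + 1), algebraMap D K (P.coeff i) * x ^ (i : ℕ)) := by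
      rw [map_sum, Finset.mul_sum, Finset.mul_sum]
      refine Finset.sum_congr rfl fun i _ => ?_
      have hCi : g (C i) = g m * algebraMap D K (P.coeff i) := by
        show algebraMap D K (algebraMap R D (C i)) = _
        rw [hC i, Algebra.smul_def, map_mul]
        rfl
      rw [map_mul, map_mul, map_pow, map_pow, hCi, hx1, div_pow]
      have hpow : g b1 ^ n = g b1 ^ (n - (i : ℕ)) * g b1 ^ (i : ℕ) := by
        rw [← pow_add, Nat.sub_add_cancel (Nat.lt_succ_iff.1 i.2)]
      rw [hpow]
      have hne := pow_ne_zero (i : ℕ) hb1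
      generalize g b1 ^ (i : ℕ) = B at hne ⊢
      linear_combination (-(g m * algebraMap D K (P.coeff i) * g b1 ^ (n - (i : ℕ)))) * div_mul_cancel₀ (g a1 ^ (i : ℕ)) hne
    rw [this, hP0, mul_zero, mul_zero]
  have hF' : algebraMap R D F = 0 := IsFractionRing.injective D K (hF.trans (map_zero _).symm)
  rw [IsLocalization.map_eq_zero_iff Q.primeCompl] at hF'
  obtain ⟨⟨u, huQ⟩, hu⟩ := hF'
  -- a stage containing everything
  obtain ⟨T, _, f, hf, hT, hmem⟩ := h ({a1, b1, u} ∪ Finset.univ.image C)
  obtain ⟨a', ha'⟩ := hmem a1 (by simp)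
  obtain ⟨b', hb'⟩ := hmem b1 (by simp)
  obtain ⟨u', hu'⟩ := hmem u (by simp)
  choose C' hC' using fun i => hmem (C i) (Finset.mem_union_right _ (Finset.mem_image_of_mem _ (Finset.mem_univ i)))
  obtain ⟨hd', hic'⟩ := hT (Q.comap f)
  haveI := hd'
  haveI := hic'
  let D' := Localization.AtPrime (Q.comap f)
  let φ : D' →+* D := Localization.localRingHom (Q.comap f) Q f rfl
  have hφ : ∀ t, φ (algebraMap T D' t) = algebraMap R D (f t) := Localization.localRingHom_to_map _ Q f rfl
  have hbD : algebraMap T D' b' ≠ 0 := fun h0 => hb1 (by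
    show algebraMap D K (algebraMap R D b1) = 0
    rw [← hb', ← hφ, h0, map_zero, map_zero])
  have hF2 : ∑ i : Fin (n + 1), algebraMap T D' (C' i) * algebraMap T D' a' ^ (i : ℕ) * algebraMap T D' b' ^ (n - (i : ℕ)) = 0 := by
    simp only [← map_pow, ← map_mul, ← map_sum]
    rw [IsLocalization.map_eq_zero_iff (Q.comap f).primeCompl]
    refine ⟨⟨u', show f u' ∉ Q by rw [hu']; exact huQ⟩, hf ?_⟩
    show f (u' * _) = f 0
    rw [map_mul, map_sum, hu', map_zero]
    simp only [map_mul, map_pow, hC', ha', hb']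
    exact hu
  have hlead : IsUnit (algebraMap T D' (C' (Fin.last n))) := by
    refine IsLocalization.map_units D' (⟨C' (Fin.last n), show f (C' (Fin.last n)) ∉ Q from ?_⟩ : (Q.comap f).primeCompl)
    rw [hC']
    intro hmem'
    have e : algebraMap R D (C (Fin.last n)) = algebraMap R D m := by
      rw [hC (Fin.last n), Algebra.smul_def, show P.coeff (Fin.last n : Fin (n + 1)) = 1 from hP.coeff_natDegree, mul_one]
    have : IsUnit (algebraMap R D (C (Fin.last n))) := e ▸ IsLocalization.map_units D (⟨m, hmQ⟩ : Q.primeCompl)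
    rw [IsLocalization.AtPrime.isUnit_to_map_iff D Q] at this
    exact this hmem'
  obtain ⟨ul, hul⟩ := hlead
  let K' := FractionRing D'
  let α := algebraMap D' K' (algebraMap T D' a')
  let β := algebraMap D' K' (algebraMap T D' b')
  have hβ : β ≠ 0 := (map_ne_zero_iff _ (IsFractionRing.injective D' K')).2 hbD
  have hint : IsIntegral D' (α / β) := by
    refine ⟨∑ i : Fin (n + 1), Polynomial.C ((↑ul⁻¹ : D') * algebraMap T D' (C' i)) * Polynomial.X ^ (i : ℕ), ?_, ?_⟩
    · rw [Fin.sum_univ_castSucc]
      simp only [← hul, Units.inv_mul, map_one, one_mul, Fin.val_last, Fin.val_castSucc]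
      rw [add_comm]
      refine Polynomial.monic_X_pow_add ?_
      exact Polynomial.degree_sum_fin_lt _
    · rw [Polynomial.eval₂_finsetSum]
      simp only [Polynomial.eval₂_mul, Polynomial.eval₂_C, Polynomial.eval₂_X_pow]
      have h2 := congrArg (algebraMap D' K') hF2
      rw [map_sum, map_zero] at h2
      have h3 : (∑ i : Fin (n + 1), algebraMap D' K' ((↑ul⁻¹ : D') * algebraMap T D' (C' i)) * (α / β) ^ (i : ℕ)) * β ^ n
          = algebraMap D' K' ↑ul⁻¹ * ∑ i : Fin (n + 1), algebraMap D' K'
            (algebraMap T D' (C' i) * algebraMap T D' a' ^ (i : ℕ) * algebraMap T D' b' ^ (n - (i : ℕ))) := by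
        rw [Finset.sum_mul, Finset.mul_sum]
        refine Finset.sum_congr rfl fun i _ => ?_
        simp only [map_mul, map_pow]
        rw [div_pow, show β ^ n = β ^ (n - (i : ℕ)) * β ^ (i : ℕ) by
          rw [← pow_add, Nat.sub_add_cancel (Nat.lt_succ_iff.1 i.2)]]
        have hne := pow_ne_zero (i : ℕ) hβ
        generalize β ^ (i : ℕ) = B at hne ⊢
        show algebraMap D' K' (↑ul⁻¹ : D') * algebraMap D' K' (algebraMap T D' (C' i)) * (α ^ (i : ℕ) / B) * (β ^ (n - (i : ℕ)) * B) =
          algebraMap D' K' (↑ul⁻¹ : D') * (algebraMap D' K' (algebraMap T D' (C' i)) * α ^ (i : ℕ) * β ^ (n - (i : ℕ)))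
        linear_combination (algebraMap D' K' (↑ul⁻¹ : D') * algebraMap D' K' (algebraMap T D' (C' i)) * β ^ (n - (i : ℕ))) *
          div_mul_cancel₀ (α ^ (i : ℕ)) hne
      rw [h2, mul_zero] at h3
      exact (mul_eq_zero.1 h3).resolve_right (pow_ne_zero _ hβ)
  obtain ⟨d, hd⟩ := IsIntegrallyClosed.isIntegral_iff.1 hint
  have hd' : algebraMap T D' a' = d * algebraMap T D' b' := IsFractionRing.injective D' K' (by
    rw [map_mul, hd, div_mul_cancel₀ _ hβ])
  refine ⟨φ d, ?_⟩
  show algebraMap D K (φ d) = x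
  rw [hx1, eq_div_iff hb1]
  show algebraMap D K (φ d) * algebraMap D K (algebraMap R D b1) = algebraMap D K (algebraMap R D a1)
  rw [← hb', ← ha', ← hφ, ← hφ, hd', map_mul φ, map_mul]

variable {k : Type u} [Field k] {S : Type u} [CommRing S] [Algebra k S]

/-- The exhaustion of `K ⊗ S` by finitely generated subfields of `K`. -/
theorem isNormalRing_tensor_of_subfields (K : Type u) [Field K] [Algebra k K]
    (h : ∀ F : IntermediateField k K, Algebra.EssFiniteType k F → EGA4.IsNormalRing (F ⊗[k] S)) :
    EGA4.IsNormalRing (K ⊗[k] S) := by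
  classical
  refine isNormalRing_of_exhausted _ fun s => ?_
  choose t ht using fun z : K ⊗[k] S => TensorProduct.exists_finset z
  let G : Finset K := s.biUnion fun z => (t z).image Prod.fst
  let F := IntermediateField.adjoin k (G : Set K)
  refine ⟨F ⊗[k] S, inferInstance, (Algebra.TensorProduct.map F.val (AlgHom.id k S)).toRingHom,
    Module.Flat.rTensor_preserves_injective_linearMap (M := S) F.val.toLinearMap F.val.injective,
    h F (IntermediateField.essFiniteType_iff.2 (IntermediateField.fg_adjoin_finset G)), fun z hz => ?_⟩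
  rw [ht z]
  have : ∀ p ∈ t z, (p.1 ⊗ₜ[k] p.2 : K ⊗[k] S) ∈ (Algebra.TensorProduct.map F.val (AlgHom.id k S)).range := fun p hp =>
    ⟨(⟨p.1, IntermediateField.subset_adjoin k _ (Finset.mem_coe.2 (Finset.mem_biUnion.2 ⟨z, hz, Finset.mem_image_of_mem _ hp⟩))⟩ : F) ⊗ₜ[k] p.2, rfl⟩
  exact Subalgebra.sum_mem _ this

/-- A geometrically normal algebra stays normal after every field extension. -/
theorem isNormalRing_tensor_field (hS : EGA4.IsGeomNormal k S) (K : Type u) [Field K] [Algebra k K] :
    EGA4.IsNormalRing (K ⊗[k] S) :=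
  isNormalRing_tensor_of_subfields K fun F _ => isNormalRing_tensor_of_essFiniteType hS F

/-- Normality is preserved by separable extensions of the base field. -/
theorem isNormalRing_tensor_separable (hS : EGA4.IsNormalRing S) (K : Type u) [Field K] [Algebra k K]
    [Algebra.IsGeometricallyReduced k K] : EGA4.IsNormalRing (K ⊗[k] S) :=
  isNormalRing_tensor_of_subfields K fun F hF => by
    haveI := hF
    haveI : Algebra.IsGeometricallyReduced k F :=
      Algebra.IsGeometricallyReduced.of_injective F.val F.val.injective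
    haveI : Algebra.FormallySmooth k F := GrothLib.SepField.formallySmooth_iff_isGeometricallyReduced.mpr inferInstance
    exact isNormalRing_tensor_of_formallySmooth k F S hS

/-- The tensor product of a normal and a geometrically normal algebra. -/
theorem isNormalRing_tensor_algebras {T : Type u} [CommRing T] [Algebra k T] [IsNoetherianRing S]
    [IsNoetherianRing (S ⊗[k] T)] (hS : EGA4.IsNormalRing S) (hT : EGA4.IsGeomNormal k T) :
    EGA4.IsNormalRing (S ⊗[k] T) := by
  refine isNormalRing_of_flat_of_fibres hS fun p _ => ?_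
  exact isNormalRing_congr (Algebra.TensorProduct.cancelBaseChange k S S p.ResidueField T).symm.toRingEquiv
    (isNormalRing_tensor_field hT p.ResidueField)

end GrothLib.NormalHom
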