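import Groth.Agent.Lib.NormalHom.BaseChange
import Groth.Agent.Lib.AdicExtra.Units
import Groth.Agent.Lib.AdicExtra.Completion
import Groth.Agent.Lib.GeomReg.Comp
import Mathlib.RingTheory.AdicCompletion.AsTensorProduct

/-!
# The localisation at `1 + J` and the `J`-adic completion
-/

set_option autoImplicit false
set_option linter.style.haveILetI false
universe u

open TensorProduct

namespace GrothLib.NormalHom

variable {A : Type u} [CommRing A] [IsNoetherianRing A] {J : Ideal A} (T : Submonoid A)

theorem isUnit_onePlus (hT : T = MonoidHom.mker (Ideal.Quotient.mk J)) (s : T) :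
    IsUnit (algebraMap A (AdicCompletion J A) s) := by
  refine GrothLib.AdicExtra.isUnit_of_isUnit_evalOne _ ?_
  rw [AlgHom.commutes, Ideal.Quotient.algebraMap_eq]
  have hs : (s : A) ∈ MonoidHom.mker (Ideal.Quotient.mk J) := hT ▸ s.2
  rw [MonoidHom.mem_mker.1 hs]
  exact isUnit_one

/-- The completion is faithfully flat over the localisation at `1 + J`. -/
theorem exists_algebra_onePlus (hT : T = MonoidHom.mker (Ideal.Quotient.mk J)) :
    ∃ φ : Localization T →+* AdicCompletion J A,
      φ.comp (algebraMap A (Localization T)) = algebraMap A (AdicCompletion J A) ∧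
      (letI := φ.toAlgebra; Module.FaithfullyFlat (Localization T) (AdicCompletion J A)) := by
  let φ : Localization T →+* AdicCompletion J A := IsLocalization.lift (isUnit_onePlus T hT)
  have hφ : φ.comp (algebraMap A (Localization T)) = algebraMap A (AdicCompletion J A) :=
    IsLocalization.lift_comp _
  refine ⟨φ, hφ, ?_⟩
  letI := φ.toAlgebra
  haveI : IsScalarTower A (Localization T) (AdicCompletion J A) := IsScalarTower.of_algebraMap_eq' hφ.symm
  haveI : Module.Flat A (AdicCompletion J A) := AdicCompletion.flat_of_isNoetherian J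
  haveI : Module.Flat (Localization T) (AdicCompletion J A) :=
    (Module.flat_iff_of_isLocalization (Localization T) T _).2 inferInstance
  refine ⟨fun {m} hm h => ?_⟩
  have hdisj : ∀ a ∈ T, a ∉ m.comap (algebraMap A (Localization T)) := fun a ha ham =>
    hm.ne_top (Ideal.eq_top_of_isUnit_mem _ ham (IsLocalization.map_units (Localization T) ⟨a, ha⟩))
  have hne : m.comap (algebraMap A (Localization T)) ⊔ J ≠ ⊤ := by
    intro htop
    obtain ⟨a, ha, j, hj, haj⟩ := Submodule.mem_sup.1 ((Ideal.eq_top_iff_one _).1 htop)
    refine hdisj a ?_ ha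
    rw [hT, MonoidHom.mem_mker]
    show Ideal.Quotient.mk J a = 1
    rw [← map_one (Ideal.Quotient.mk J), ← haj, map_add, Ideal.Quotient.eq_zero_iff_mem.2 hj, add_zero]
  obtain ⟨n, hn, hle⟩ := Ideal.exists_le_maximal _ hne
  have hJn : J ≤ n := le_trans le_sup_right hle
  have hnT : Disjoint (T : Set A) n := by
    rw [Set.disjoint_left]
    intro a ha han
    rw [hT] at ha
    have h1 : a - 1 ∈ J := by
      rw [← Ideal.Quotient.eq_zero_iff_mem, map_sub, map_one]
      exact sub_eq_zero.2 (MonoidHom.mem_mker.1 ha)
    exact hn.ne_top ((Ideal.eq_top_iff_one _).2 (by simpa using sub_mem han (hJn h1)))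
  haveI : (n.map (algebraMap A (Localization T))).IsPrime :=
    IsLocalization.isPrime_of_isPrime_disjoint T _ n hn.isPrime hnT
  have hmn : m = n.map (algebraMap A (Localization T)) := by
    refine hm.eq_of_le (Ideal.IsPrime.ne_top inferInstance) ?_
    rw [← IsLocalization.map_under T (Localization T) m]
    exact Ideal.map_mono (le_trans le_sup_left hle)
  let ev : AdicCompletion J A →+* A ⧸ n :=
    (Ideal.Quotient.factor hJn).comp (AdicCompletion.evalOneₐ J).toRingHom
  have hev : ∀ a : A, ev (algebraMap A (AdicCompletion J A) a) = Ideal.Quotient.mk n a := fun a => by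
    show Ideal.Quotient.factor hJn (AdicCompletion.evalOneₐ J (algebraMap A _ a)) = _
    rw [AlgHom.commutes, Ideal.Quotient.algebraMap_eq, Ideal.Quotient.factor_mk]
  rw [Ideal.smul_top_eq_map, Submodule.restrictScalars_eq_top_iff] at h
  have h2 : m.map (algebraMap (Localization T) (AdicCompletion J A)) ≤ RingHom.ker ev := by
    rw [hmn, Ideal.map_map, Ideal.map_le_iff_le_comap]
    intro a ha
    show ev (φ (algebraMap A (Localization T) a)) = 0
    rw [← RingHom.comp_apply φ, hφ, hev, Ideal.Quotient.eq_zero_iff_mem]
    exact ha
  rw [h] at h2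
  have h3 : ev 1 = 0 := h2 (Submodule.mem_top)
  rw [map_one] at h3
  exact hn.ne_top (Ideal.Quotient.subsingleton_iff.1 (subsingleton_of_zero_eq_one h3.symm))

/-- The completion map factors as a normal homomorphism over the localisation at `1 + J`. -/
theorem isNormalRing_field_tensor_localization {B : Type u} [CommRing B] [Algebra A B]
    [Algebra (Localization T) B] [IsScalarTower A (Localization T) B] (hf : EGA4.IsNormalHom A B)
    (K : Type u) [Field K] [Algebra (Localization T) K] : EGA4.IsNormalRing (K ⊗[Localization T] B) := by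
  letI : Algebra A K := ((algebraMap (Localization T) K).comp (algebraMap A (Localization T))).toAlgebra
  haveI : IsScalarTower A (Localization T) K := IsScalarTower.of_algebraMap_eq fun _ => rfl
  haveI := IsLocalization.tensorProduct_compatibleSMul T (Localization T) K B
  exact GrothLib.Excellent.isNormalRing_congr
    (Algebra.TensorProduct.equivOfCompatibleSMul (Localization T) A A K B).toRingEquiv
    (isNormalRing_field_tensor' hf.2 K)

end GrothLib.NormalHom
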